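import Cfsg.Agent.Spor.Chk

set_option autoImplicit false
set_option maxRecDepth 100000000
set_option Elab.async false
noncomputable section

namespace Cfsg.Agent.Spor.SzUa

def m0_0 : Nat := nat_lit 0x30
def m0_1 : Nat := nat_lit 0x704
def m0_2 : Nat := nat_lit 0x1322
def m0_3 : Nat := nat_lit 0x200
def m0_4 : Nat := nat_lit 0x30
def n0 : Net := Net.cons 8 m0_0 (Net.cons 4 m0_1 (Net.cons 2 m0_2 (Net.cons 4 m0_3 (Net.cons 8 m0_4 (Net.nil)))))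

def m1_0 : Nat := nat_lit 0x71
def m1_1 : Nat := nat_lit 0xa0c
def m1_2 : Nat := nat_lit 0x20
def m1_3 : Nat := nat_lit 0x4545
def m1_4 : Nat := nat_lit 0x2000
def m1_5 : Nat := nat_lit 0x802
def m1_6 : Nat := nat_lit 0xa
def n1 : Net := Net.cons 8 m1_0 (Net.cons 4 m1_1 (Net.cons 2 m1_2 (Net.cons 1 m1_3 (Net.cons 2 m1_4 (Net.cons 4 m1_5 (Net.cons 8 m1_6 (Net.nil)))))))

def m2_0 : Nat := nat_lit 0x44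
def m2_1 : Nat := nat_lit 0x201
def m2_2 : Nat := nat_lit 0x320
def m2_3 : Nat := nat_lit 0x5
def m2_4 : Nat := nat_lit 0x201
def m2_5 : Nat := nat_lit 0x4
def n2 : Net := Net.cons 8 m2_0 (Net.cons 4 m2_1 (Net.cons 2 m2_2 (Net.cons 1 m2_3 (Net.cons 4 m2_4 (Net.cons 8 m2_5 (Net.nil))))))

def m3_0 : Nat := nat_lit 0xa9
def m3_1 : Nat := nat_lit 0x106
def m3_2 : Nat := nat_lit 0x111
def m3_3 : Nat := nat_lit 0x4141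
def m3_4 : Nat := nat_lit 0x1101
def m3_5 : Nat := nat_lit 0x601
def m3_6 : Nat := nat_lit 0x56
def n3 : Net := Net.cons 8 m3_0 (Net.cons 4 m3_1 (Net.cons 2 m3_2 (Net.cons 1 m3_3 (Net.cons 2 m3_4 (Net.cons 4 m3_5 (Net.cons 8 m3_6 (Net.nil)))))))

def m4_0 : Nat := nat_lit 0x4
def m4_1 : Nat := nat_lit 0x1
def m4_2 : Nat := nat_lit 0x5
def m4_3 : Nat := nat_lit 0x1
def m4_4 : Nat := nat_lit 0x4
def n4 : Net := Net.cons 8 m4_0 (Net.cons 4 m4_1 (Net.cons 1 m4_2 (Net.cons 4 m4_3 (Net.cons 8 m4_4 (Net.nil)))))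

def m5_0 : Nat := nat_lit 0x41
def m5_1 : Nat := nat_lit 0x1
def m5_2 : Nat := nat_lit 0x1
def n5 : Net := Net.cons 8 m5_0 (Net.cons 2 m5_1 (Net.cons 8 m5_2 (Net.nil)))

def m6_0 : Nat := nat_lit 0x24
def m6_1 : Nat := nat_lit 0x201
def m6_2 : Nat := nat_lit 0x223
def m6_3 : Nat := nat_lit 0x201
def m6_4 : Nat := nat_lit 0x24
def n6 : Net := Net.cons 8 m6_0 (Net.cons 4 m6_1 (Net.cons 2 m6_2 (Net.cons 4 m6_3 (Net.cons 8 m6_4 (Net.nil)))))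

def m7_0 : Nat := nat_lit 0x10
def m7_1 : Nat := nat_lit 0x504
def m7_2 : Nat := nat_lit 0x1102
def m7_3 : Nat := nat_lit 0x10
def n7 : Net := Net.cons 8 m7_0 (Net.cons 4 m7_1 (Net.cons 2 m7_2 (Net.cons 8 m7_3 (Net.nil))))

def ip1 : List Nat := [0x1268, 0x4f30, 0xba80]
def l1 : Let := ⟨0, false, 0xffff, 0x48, [0x9248, 0xfdb0, 0xb280]⟩

def ip2 : List Nat := [0xf382, 0x4800, 0x120]
def l2 : Let := ⟨1, false, 0xffff, 0xb282, [0xfa82, 0x120, 0x4800]⟩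

def ip3 : List Nat := [0xcf90, 0x92a0, 0x28a0]
def l3 : Let := ⟨2, false, 0xffff, 0x4510, [0xfd10, 0x82a0, 0xba00]⟩

def ip4 : List Nat := [0xcf24, 0xf110, 0xa480, 0x1340]
def l4 : Let := ⟨3, false, 0xffff, 0x824, [0x2c24, 0xc2d0, 0xf500]⟩

def ip5 : List Nat := [0x4c08, 0x24]
def l5 : Let := ⟨4, false, 0x4c2d, 0x0, [0x4424, 0x24, 0x4c08]⟩

def ip6 : List Nat := [0x803, 0x901, 0x34]
def l6 : Let := ⟨4, true, 0x937, 0x0, [0x35, 0x34, 0x902]⟩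

def ip7 : List Nat := [0x808, 0x2800, 0x182]
def l7 : Let := ⟨5, false, 0x298b, 0x0, [0x982, 0x182, 0x2808]⟩

def ip8 : List Nat := [0x20a6, 0x28, 0x87]
def l8 : Let := ⟨5, true, 0x20af, 0x0, [0x87, 0x86, 0x2028]⟩

def ip9 : List Nat := [0x18c, 0x588]
def l9 : Let := ⟨6, false, 0x58d, 0x0, [0x108, 0x188, 0x404]⟩

def ip10 : List Nat := [0x2106, 0x2543]
def l10 : Let := ⟨6, true, 0x2547, 0x0, [0x543, 0x2102, 0x444]⟩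

def ip11 : List Nat := [0x8]
def l11 : Let := ⟨7, false, 0x9, 0x0, [0x8, 0x8, 0x0]⟩

def ip12 : List Nat := [0x8, 0x1]
def l12 : Let := ⟨7, true, 0x9, 0x0, [0x1, 0x0, 0x8]⟩

def NT : List Net := [n0, n1, n2, n3, n4, n5, n6, n7]
def LT : List Let := [⟨0, false, 0, 0, []⟩, l1, l2, l3, l4, l5, l6, l7, l8, l9, l10, l11, l12]
def T : Tab := ⟨NT, LT⟩
def EX : List (List Nat) := [[], [0], [2], [4], [6], [6, 2, 6, 4, 2], [2, 4, 6, 2, 6], [6, 4, 2, 6, 2], [2, 6, 2, 4, 6], [2, 0, 6, 0, 6, 2], [2, 6, 0, 6, 0, 2], [2, 0, 2, 6, 0, 6], [6, 0, 6, 2, 0, 2]]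
def RL : List (List Nat) := [[2, 6, 0, 6, 0, 6, 2, 4, 6, 2, 0, 6, 0, 6, 2, 6, 4, 2, 6, 2], [6, 0, 6, 2, 6, 0, 6, 0, 2, 6, 0, 6, 2, 0, 6, 0, 6, 2], [2, 0, 2, 6, 0, 6, 2, 0, 2, 6, 0, 6, 2, 0, 6, 0, 6, 0, 6, 0, 6, 2], [2, 0, 2, 6, 0, 4, 2, 6, 0, 2, 6, 0, 4, 2, 6, 2], [6, 4, 2, 6, 2, 6, 4, 2, 6, 2, 6, 2, 6, 4, 2, 6, 2, 6, 4, 2], [2, 6, 2, 4, 2, 6, 4, 2, 6, 4, 2, 6, 2, 6, 2, 6, 4, 2], [2, 0, 6, 0, 6, 2, 6, 2, 6, 4, 0, 6, 0, 6, 2, 6, 2, 6, 4, 2], [2, 0, 2, 6, 0, 2, 6, 4, 0, 2, 6, 0, 2, 6, 4, 2], [2, 4, 6, 2, 6, 4, 6, 2, 6, 4, 2, 4], [2, 6, 0, 6, 0, 2, 4, 2, 0, 6, 0, 6, 2, 4], [2, 6, 2, 4, 6, 4, 6, 4, 2, 6, 2, 4], [6, 0, 6, 2, 0, 2, 4, 2, 0, 2, 6, 0, 6, 4], [2, 4, 6, 2, 6, 0, 6, 2, 6, 4, 2, 0], [2, 6, 0, 6, 0, 2, 0, 2, 0, 6, 0, 6, 2, 0], [4, 0, 4, 0], [2, 6, 2, 4, 6, 0, 6, 4, 2, 6, 2, 0], [6, 0, 6, 2, 0,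 2, 0, 2, 0, 2, 6, 0, 6, 0], [4, 2, 4, 6, 2, 4, 2, 6, 2, 6, 2, 4, 6, 2]]
def XL : List (List Nat) := []
def BW : List (List Nat) := [[0], [4], [6, 2, 6, 4, 2], [6, 4, 2, 6, 2], [2, 0, 6, 0, 6, 2], [2, 0, 2, 6, 0, 6]]
def IV : Nat := 0xb0c090a070805060403020100
def L : List Nat := [1, 2, 3, 4, 5, 6, 7, 8, 9, 10, 11, 12]
def gs : List Nat := [1, 2, 3, 4]
def base : List Nat := [1, 3, 5, 7, 9, 11]

end Cfsg.Agent.Spor.SzUa
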